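import Cfsg.Agent.Lib.Helper6.TC1
import Cfsg.Agent.Lib.Helper6.TCD.Fi23a.Par
set_option autoImplicit false
set_option maxRecDepth 1000000
set_option Elab.async false
open Cfsg.Agent.Lib.Helper6.TC
namespace Cfsg.Agent.Lib.Helper6.TCD.Fi23a
theorem chkS10 : allR (chkSlot SH SC NH NC WD n ncol nrw nw tmax INV) 80000 8000 = true := by decide +kernel
end Cfsg.Agent.Lib.Helper6.TCD.Fi23a
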