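import Cfsg.Agent.Lib.Helper6.TCD.Fi23a.CS0
import Cfsg.Agent.Lib.Helper6.TCD.Fi23a.CS1
import Cfsg.Agent.Lib.Helper6.TCD.Fi23a.CS2
import Cfsg.Agent.Lib.Helper6.TCD.Fi23a.CS3
import Cfsg.Agent.Lib.Helper6.TCD.Fi23a.CS4
import Cfsg.Agent.Lib.Helper6.TCD.Fi23a.CS5
import Cfsg.Agent.Lib.Helper6.TCD.Fi23a.CS6
import Cfsg.Agent.Lib.Helper6.TCD.Fi23a.CS7
import Cfsg.Agent.Lib.Helper6.TCD.Fi23a.CS8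
import Cfsg.Agent.Lib.Helper6.TCD.Fi23a.CS9
import Cfsg.Agent.Lib.Helper6.TCD.Fi23a.CS10
import Cfsg.Agent.Lib.Helper6.TCD.Fi23a.CS11
import Cfsg.Agent.Lib.Helper6.TCD.Fi23a.CS12
import Cfsg.Agent.Lib.Helper6.TCD.Fi23a.CS13
import Cfsg.Agent.Lib.Helper6.TCD.Fi23a.CS14
import Cfsg.Agent.Lib.Helper6.TCD.Fi23a.CS15
import Cfsg.Agent.Lib.Helper6.TCD.Fi23a.CS16
import Cfsg.Agent.Lib.Helper6.TCD.Fi23a.CS17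
import Cfsg.Agent.Lib.Helper6.TCD.Fi23a.CS18
import Cfsg.Agent.Lib.Helper6.TCD.Fi23a.CS19
import Cfsg.Agent.Lib.Helper6.TCD.Fi23a.CS20
import Cfsg.Agent.Lib.Helper6.TCD.Fi23a.CS21
import Cfsg.Agent.Lib.Helper6.TCD.Fi23a.CS22
import Cfsg.Agent.Lib.Helper6.TCD.Fi23a.CS23
import Cfsg.Agent.Lib.Helper6.TCD.Fi23a.CS24
import Cfsg.Agent.Lib.Helper6.TCD.Fi23a.CS25
import Cfsg.Agent.Lib.Helper6.TCD.Fi23a.CS26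
import Cfsg.Agent.Lib.Helper6.TCD.Fi23a.CS27
import Cfsg.Agent.Lib.Helper6.TCD.Fi23a.CS28
import Cfsg.Agent.Lib.Helper6.TCD.Fi23a.CS29
import Cfsg.Agent.Lib.Helper6.TCD.Fi23a.CS30
import Cfsg.Agent.Lib.Helper6.TCD.Fi23a.CS31
import Cfsg.Agent.Lib.Helper6.TCD.Fi23a.CS32
import Cfsg.Agent.Lib.Helper6.TCD.Fi23a.CS33
import Cfsg.Agent.Lib.Helper6.TCD.Fi23a.CS34
import Cfsg.Agent.Lib.Helper6.TCD.Fi23a.CS35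
import Cfsg.Agent.Lib.Helper6.TCD.Fi23a.CS36
import Cfsg.Agent.Lib.Helper6.TCD.Fi23a.CS37
import Cfsg.Agent.Lib.Helper6.TCD.Fi23a.CS38
import Cfsg.Agent.Lib.Helper6.TCD.Fi23a.CS39
import Cfsg.Agent.Lib.Helper6.TCD.Fi23a.CS40
import Cfsg.Agent.Lib.Helper6.TCD.Fi23a.CS41
import Cfsg.Agent.Lib.Helper6.TCD.Fi23a.CS42
import Cfsg.Agent.Lib.Helper6.TCD.Fi23a.CS43
import Cfsg.Agent.Lib.Helper6.TCD.Fi23a.CS44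
import Cfsg.Agent.Lib.Helper6.TCD.Fi23a.CS45
import Cfsg.Agent.Lib.Helper6.TCD.Fi23a.CS46
import Cfsg.Agent.Lib.Helper6.TCD.Fi23a.CS47
import Cfsg.Agent.Lib.Helper6.TCD.Fi23a.CS48
import Cfsg.Agent.Lib.Helper6.TCD.Fi23a.CS49
import Cfsg.Agent.Lib.Helper6.TCD.Fi23a.CS50
import Cfsg.Agent.Lib.Helper6.TCD.Fi23a.CS51
import Cfsg.Agent.Lib.Helper6.TCD.Fi23a.CS52
import Cfsg.Agent.Lib.Helper6.TCD.Fi23a.CS53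
import Cfsg.Agent.Lib.Helper6.TCD.Fi23a.CS54
import Cfsg.Agent.Lib.Helper6.TCD.Fi23a.CS55
import Cfsg.Agent.Lib.Helper6.TCD.Fi23a.CS56
import Cfsg.Agent.Lib.Helper6.TCD.Fi23a.CS57
import Cfsg.Agent.Lib.Helper6.TCD.Fi23a.CS58
import Cfsg.Agent.Lib.Helper6.TCD.Fi23a.CS59
import Cfsg.Agent.Lib.Helper6.TCD.Fi23a.CS60
import Cfsg.Agent.Lib.Helper6.TCD.Fi23a.CS61
import Cfsg.Agent.Lib.Helper6.TCD.Fi23a.CS62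
import Cfsg.Agent.Lib.Helper6.TCD.Fi23a.CS63
import Cfsg.Agent.Lib.Helper6.TCD.Fi23a.CS64
import Cfsg.Agent.Lib.Helper6.TCD.Fi23a.CS65
import Cfsg.Agent.Lib.Helper6.TCD.Fi23a.CS66
import Cfsg.Agent.Lib.Helper6.TCD.Fi23a.CS67
import Cfsg.Agent.Lib.Helper6.TCD.Fi23a.CS68
import Cfsg.Agent.Lib.Helper6.TCD.Fi23a.CS69
import Cfsg.Agent.Lib.Helper6.TCD.Fi23a.CS70
import Cfsg.Agent.Lib.Helper6.TCD.Fi23a.CS71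
import Cfsg.Agent.Lib.Helper6.TCD.Fi23a.CS72
import Cfsg.Agent.Lib.Helper6.TCD.Fi23a.CS73
import Cfsg.Agent.Lib.Helper6.TCD.Fi23a.CS74
import Cfsg.Agent.Lib.Helper6.TCD.Fi23a.CS75
import Cfsg.Agent.Lib.Helper6.TCD.Fi23a.CS76
import Cfsg.Agent.Lib.Helper6.TCD.Fi23a.CS77
import Cfsg.Agent.Lib.Helper6.TCD.Fi23a.CS78
import Cfsg.Agent.Lib.Helper6.TCD.Fi23a.CS79
import Cfsg.Agent.Lib.Helper6.TCD.Fi23a.CS80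
import Cfsg.Agent.Lib.Helper6.TCD.Fi23a.CN0
import Cfsg.Agent.Lib.Helper6.TCD.Fi23a.CN1
import Cfsg.Agent.Lib.Helper6.TCD.Fi23a.CN2
import Cfsg.Agent.Lib.Helper6.TCD.Fi23a.CN3
import Cfsg.Agent.Lib.Helper6.TCD.Fi23a.CN4
import Cfsg.Agent.Lib.Helper6.TCD.Fi23a.CN5
import Cfsg.Agent.Lib.Helper6.TCD.Fi23a.CN6
import Cfsg.Agent.Lib.Helper6.TCD.Fi23a.CN7
import Cfsg.Agent.Lib.Helper6.TCD.Fi23a.CN8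
import Cfsg.Agent.Lib.Helper6.TCD.Fi23a.CN9
import Cfsg.Agent.Lib.Helper6.TCD.Fi23a.CN10
import Cfsg.Agent.Lib.Helper6.TCD.Fi23a.CC
import Cfsg.Agent.Lib.Helper6.TCD.Fi23a.CPa0
import Cfsg.Agent.Lib.Helper6.TCD.Fi23a.CPa1
import Cfsg.Agent.Lib.Helper6.TCD.Fi23a.CPa2
import Cfsg.Agent.Lib.Helper6.TCD.Fi23a.CPa3
import Cfsg.Agent.Lib.Helper6.TCD.Fi23a.CPa4
import Cfsg.Agent.Lib.Helper6.TCD.Fi23a.CPb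
import Cfsg.Agent.Lib.Helper6.TCD.Fi23a.CPc0
import Cfsg.Agent.Lib.Helper6.TCD.Fi23a.CPc1
import Cfsg.Agent.Lib.Helper6.TCD.Fi23a.CPc2
import Cfsg.Agent.Lib.Helper6.TCD.Fi23a.CPc3
import Cfsg.Agent.Lib.Helper6.TCD.Fi23a.CPc4
import Cfsg.Agent.Lib.Helper6.TCD.Fi23a.CR0
import Cfsg.Agent.Lib.Helper6.TCD.Fi23a.CR1
import Cfsg.Agent.Lib.Helper6.TCD.Fi23a.CR2
import Cfsg.Agent.Lib.Helper6.TCD.Fi23a.CR3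
import Cfsg.Agent.Lib.Helper6.TCD.Fi23a.CR4
import Cfsg.Agent.Lib.Helper6.TCD.Fi23a.CR5
import Cfsg.Agent.Lib.Helper6.TCD.Fi23a.CR6
import Cfsg.Agent.Lib.Helper6.TCD.Fi23a.CR7
import Cfsg.Agent.Lib.Helper6.TCD.Fi23a.CR8
import Cfsg.Agent.Lib.Helper6.TCD.Fi23a.CR9
import Cfsg.Agent.Lib.Helper6.TCD.Fi23a.CR10
import Cfsg.Agent.Lib.Helper6.TCD.Fi23a.CR11
import Cfsg.Agent.Lib.Helper6.TCD.Fi23a.CR12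
import Cfsg.Agent.Lib.Helper6.TCD.Fi23a.CR13
import Cfsg.Agent.Lib.Helper6.TCD.Fi23a.CR14
import Cfsg.Agent.Lib.Helper6.TCD.Fi23a.CR15
import Cfsg.Agent.Lib.Helper6.TCD.Fi23a.CR16
import Cfsg.Agent.Lib.Helper6.TCD.Fi23a.CR17
import Cfsg.Agent.Lib.Helper6.TCD.Fi23a.CR18
import Cfsg.Agent.Lib.Helper6.TCD.Fi23a.CR19
import Cfsg.Agent.Lib.Helper6.TCD.Fi23a.CR20
import Cfsg.Agent.Lib.Helper6.TCD.Fi23a.CR21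
import Cfsg.Agent.Lib.Helper6.TCD.Fi23a.CR22
import Cfsg.Agent.Lib.Helper6.TCD.Fi23a.CR23
import Cfsg.Agent.Lib.Helper6.TCD.Fi23a.CR24
import Cfsg.Agent.Lib.Helper6.TCD.Fi23a.CR25
import Cfsg.Agent.Lib.Helper6.TCD.Fi23a.CR26
import Cfsg.Agent.Lib.Helper6.TCD.Fi23a.CR27
import Cfsg.Agent.Lib.Helper6.TCD.Fi23a.CR28
import Cfsg.Agent.Lib.Helper6.TCD.Fi23a.CR29
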