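import Cfsg.Agent.Lib.Helper6.TCD.Fi23a.SHP0
import Cfsg.Agent.Lib.Helper6.TCD.Fi23a.SHP1
import Cfsg.Agent.Lib.Helper6.TCD.Fi23a.SHP2
import Cfsg.Agent.Lib.Helper6.TCD.Fi23a.SHP3
import Cfsg.Agent.Lib.Helper6.TCD.Fi23a.SHP4
import Cfsg.Agent.Lib.Helper6.TCD.Fi23a.SHP5
import Cfsg.Agent.Lib.Helper6.TCD.Fi23a.SHP6
import Cfsg.Agent.Lib.Helper6.TCD.Fi23a.SHP7
import Cfsg.Agent.Lib.Helper6.TCD.Fi23a.SHP8
import Cfsg.Agent.Lib.Helper6.TCD.Fi23a.SHP9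
set_option autoImplicit false
namespace Cfsg.Agent.Lib.Helper6.TCD.Fi23a
noncomputable def SHT0 (i : Nat) : Nat := Bool.rec (SHP0N62 i) (SHP1N62 i) (Nat.ble 65536 i)
noncomputable def SHT1 (i : Nat) : Nat := Bool.rec (SHT0 i) (SHP2N62 i) (Nat.ble 131072 i)
noncomputable def SHT2 (i : Nat) : Nat := Bool.rec (SHP3N62 i) (SHP4N62 i) (Nat.ble 262144 i)
noncomputable def SHT3 (i : Nat) : Nat := Bool.rec (SHT1 i) (SHT2 i) (Nat.ble 196608 i)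
noncomputable def SHT4 (i : Nat) : Nat := Bool.rec (SHP5N62 i) (SHP6N62 i) (Nat.ble 393216 i)
noncomputable def SHT5 (i : Nat) : Nat := Bool.rec (SHT4 i) (SHP7N62 i) (Nat.ble 458752 i)
noncomputable def SHT6 (i : Nat) : Nat := Bool.rec (SHP8N62 i) (SHP9N52 i) (Nat.ble 589824 i)
noncomputable def SHT7 (i : Nat) : Nat := Bool.rec (SHT5 i) (SHT6 i) (Nat.ble 524288 i)
noncomputable def SH (i : Nat) : Nat := Bool.rec (SHT3 i) (SHT7 i) (Nat.ble 327680 i)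
end Cfsg.Agent.Lib.Helper6.TCD.Fi23a
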